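import Groth.Agent.RedSub.H669.GradedSection
import Mathlib.RingTheory.Etale.Descent
import Mathlib.RingTheory.Etale.Pi
import Mathlib.RingTheory.Finiteness.Descent
import Mathlib.RingTheory.Ideal.Quotient.Operations
import Mathlib.LinearAlgebra.TensorProduct.Pi
import Mathlib.RingTheory.TensorProduct.Pi
import Mathlib.RingTheory.Flat.FaithfullyFlat.Algebra
import Mathlib.RingTheory.LocalProperties.Basic

/-!
# Torsors under extensions of finite constant groups by split tori over semilocal rings

`C : Coact A B M` a strong grading of the `A`-algebra `B` (a free action of `D(M)` on `Spec B`).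
`LocTriv C A'`: over `A'`, `Spec B` is a finite disjoint union of translates `p_w · D(M)`, `w ∈ W`; this is expressed in
terms of points with values in local rings (existence) and fields (uniqueness of `w`).

* `exists_algEquiv`: then `A' ⊗ B₀ ≅ A' ^ W`.
* `exists_cover`: if `A` is semilocal and `C` is locally trivial for the flat topology, then there is a finite étale
  faithfully flat `A`-algebra `E` with an `A`-algebra map `B → E`.
-/

set_option autoImplicit false
universe u

open MonoidAlgebra TensorProduct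
open Groth.Agent.Sga3B.AdGrad

namespace Groth.Agent.RedSub.H669.GradedCover

open GradedSection

variable {A B : Type u} [CommRing A] [CommRing B] [Algebra A B] {M : Type} [AddCommGroup M]

/-- The `A`-scheme `Spec B` with its action of `D(M)` is, over `A'`, a finite disjoint union of
translates `p_w · D(M)`. -/
structure LocTriv (C : Coact A B M) (A' : Type u) [CommRing A'] [Algebra A A'] where
  /-- the index set -/
  W : Type
  [finite : Finite W]
  [nonempty : Nonempty W]
  /-- the base points -/
  p : W → (B →ₐ[A] A')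
  exists_eq : ∀ (L : Type u) [CommRing L] [IsLocalRing L] [Algebra A L] [Algebra A' L] [IsScalarTower A A' L]
    (x : B →ₐ[A] L), ∃ (w : W) (χ : Multiplicative M →* Lˣ),
      x = Coact.act (C := C) ((IsScalarTower.toAlgHom A A' L).comp (p w)) χ
  unique : ∀ (L : Type u) [Field L] [Algebra A L] [Algebra A' L] [IsScalarTower A A' L]
    (w w' : W) (χ χ' : Multiplicative M →* Lˣ),
      Coact.act (C := C) ((IsScalarTower.toAlgHom A A' L).comp (p w)) χ =
        Coact.act (C := C) ((IsScalarTower.toAlgHom A A' L).comp (p w')) χ' → w = w'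

attribute [instance] LocTriv.finite LocTriv.nonempty

namespace LocTriv

variable {C : Coact A B M} {A' : Type u} [CommRing A'] [Algebra A A'] (T : LocTriv C A')

/-- the point `p_w t` with values in `A'[M]` -/
noncomputable def pt (w : T.W) : B →ₐ[A] MonoidAlgebra A' (Multiplicative M) :=
  (MonoidAlgebra.mapAlgHom (Multiplicative M) (T.p w)).comp C.ρ

lemma pt_of_isHom (w : T.W) {m : M} {b : B} (hb : C.IsHom m b) :
    T.pt w b = single (Multiplicative.ofAdd m) (T.p w b) := by
  rw [pt, AlgHom.comp_apply, (hb : C.ρ b = _), MonoidAlgebra.mapAlgHom_single]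

/-- the map `A' ⊗ B → A'[M]` -/
noncomputable def Phi (w : T.W) : A' ⊗[A] B →ₐ[A'] MonoidAlgebra A' (Multiplicative M) :=
  Algebra.TensorProduct.lift (Algebra.ofId _ _) (T.pt w) (fun _ _ => Commute.all _ _)

lemma Phi_tmul (w : T.W) (a : A') (b : B) : T.Phi w (a ⊗ₜ b) = a • T.pt w b := by
  rw [Phi, Algebra.TensorProduct.lift_tmul, Algebra.smul_def]
  rfl

lemma Phi_surjective (hC : C.Free) (w : T.W) : Function.Surjective (T.Phi w) := by
  rw [← AlgHom.range_eq_top, eq_top_iff]
  intro x _
  induction x using MonoidAlgebra.induction_linear with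
  | zero => exact zero_mem _
  | add x y hx hy => exact add_mem (hx trivial) (hy trivial)
  | single m a =>
    obtain ⟨k, u, v, hu, hv, huv⟩ := hC m.toAdd
    refine ⟨∑ i, (a * T.p w (u i)) ⊗ₜ v i, ?_⟩
    change T.Phi w _ = _
    rw [map_sum]
    have h1 : ∀ i, T.Phi w ((a * T.p w (u i)) ⊗ₜ v i) = single m (a * T.p w (u i * v i)) := by
      intro i
      rw [Phi_tmul, T.pt_of_isHom w (hv i), MonoidAlgebra.smul_single, map_mul, smul_eq_mul, mul_assoc]
      rfl
    simp_rw [h1]
    have h2 : ∑ i, single m (a * T.p w (u i * v i)) = single m (∑ i, a * T.p w (u i * v i)) :=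
      (map_sum (MonoidAlgebra.singleAddHom m) _ _).symm
    rw [h2, ← Finset.mul_sum, ← map_sum, huv, map_one, mul_one]

/-- evaluation of `A'[M]` at a character -/
noncomputable def ev {L : Type u} [CommRing L] [Algebra A' L] (χ : Multiplicative M →* Lˣ) :
    MonoidAlgebra A' (Multiplicative M) →ₐ[A'] L :=
  MonoidAlgebra.lift A' L (Multiplicative M) ((Units.coeHom L).comp χ)

lemma ev_single {L : Type u} [CommRing L] [Algebra A' L] (χ : Multiplicative M →* Lˣ)
    (m : Multiplicative M) (a : A') : ev χ (single m a) = algebraMap A' L a * (χ m : L) := by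
  rw [ev, MonoidAlgebra.lift_single, Algebra.smul_def]
  rfl

lemma ev_pt {L : Type u} [CommRing L] [Algebra A L] [Algebra A' L] [IsScalarTower A A' L] (w : T.W)
    (χ : Multiplicative M →* Lˣ) (b : B) :
    ev χ (T.pt w b) = Coact.act (C := C) ((IsScalarTower.toAlgHom A A' L).comp (T.p w)) χ b := by
  rw [← C.sum_comp b _ subset_rfl, map_sum, map_sum, map_sum]
  refine Finset.sum_congr rfl fun m _ => ?_
  rw [T.pt_of_isHom w (C.isHom_comp m b), ev_single, Coact.act_of_isHom _ _ (C.isHom_comp m b)]
  rfl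

lemma algHom_ext' {L : Type u} [CommRing L] [Algebra A' L] {f g : A' ⊗[A] B →ₐ[A'] L}
    (h : ∀ b : B, f (1 ⊗ₜ b) = g (1 ⊗ₜ b)) : f = g := by
  apply AlgHom.ext
  intro x
  induction x using TensorProduct.induction_on with
  | zero => rw [map_zero, map_zero]
  | add x y hx hy => rw [map_add, map_add, hx, hy]
  | tmul a b =>
    have : (a ⊗ₜ b : A' ⊗[A] B) = algebraMap A' (A' ⊗[A] B) a * (1 ⊗ₜ b) := by
      rw [Algebra.TensorProduct.algebraMap_apply, Algebra.TensorProduct.tmul_mul_tmul, one_mul]
      simp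
    rw [this, map_mul, map_mul, AlgHom.commutes, AlgHom.commutes, h]

/-- `A' ⊗ B → ∏ A'[M]` is injective. -/
lemma Phi_injective {x : A' ⊗[A] B} (hx : ∀ w, T.Phi w x = 0) : x = 0 := by
  -- check at all localizations
  have key : ∀ (P : Ideal (A' ⊗[A] B)) [P.IsMaximal],
      algebraMap (A' ⊗[A] B) (Localization.AtPrime P) x = 0 := by
    intro P hP
    let L := Localization.AtPrime P
    let _ : Algebra A L := inferInstance
    let y : B →ₐ[A] L := (IsScalarTower.toAlgHom A (A' ⊗[A] B) L).comp Algebra.TensorProduct.includeRight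
    obtain ⟨w, χ, h⟩ := T.exists_eq L y
    have h1 : (ev χ).comp (T.Phi w) = IsScalarTower.toAlgHom A' (A' ⊗[A] B) L := by
      apply algHom_ext'
      intro b
      rw [AlgHom.comp_apply, Phi_tmul, one_smul, ev_pt, ← h]
      rfl
    have h2 := congrArg (fun f => f x) h1
    simp only [AlgHom.comp_apply, hx w, map_zero] at h2
    exact h2.symm
  have h3 : ∀ (P : Ideal (A' ⊗[A] B)) [P.IsMaximal], ∃ s ∉ P, s * x = 0 := by
    intro P hP
    have h4 := key P
    rw [IsLocalization.map_eq_zero_iff P.primeCompl] at h4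
    obtain ⟨s, hs⟩ := h4
    exact ⟨s, s.2, hs⟩
  by_contra hne
  let I : Ideal (A' ⊗[A] B) := Submodule.annihilator (Submodule.span (A' ⊗[A] B) {x})
  have hI : I ≠ ⊤ := by
    intro h
    apply hne
    have h5 : (1 : A' ⊗[A] B) ∈ I := by rw [h]; trivial
    rw [Submodule.mem_annihilator_span_singleton] at h5
    simpa using h5
  obtain ⟨P, hP, hIP⟩ := Ideal.exists_le_maximal I hI
  obtain ⟨s, hs, hsx⟩ := h3 P
  exact hs (hIP ((Submodule.mem_annihilator_span_singleton _ _).2 hsx))

lemma isCoprime_ker (hC : C.Free) {w w' : T.W} (hne : w ≠ w') :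
    IsCoprime (RingHom.ker (T.Phi w)) (RingHom.ker (T.Phi w')) := by
  rw [Ideal.isCoprime_iff_sup_eq]
  by_contra hn
  obtain ⟨P, hP, hle⟩ := Ideal.exists_le_maximal _ hn
  let L := (A' ⊗[A] B) ⧸ P
  let _ : Field L := Ideal.Quotient.field P
  -- the two characters
  have key : ∀ v : T.W, RingHom.ker (T.Phi v) ≤ P →
      ∃ χ : Multiplicative M →* Lˣ, (ev χ).comp (T.Phi v) = Ideal.Quotient.mkₐ A' P := by
    intro v hv
    let g : MonoidAlgebra A' (Multiplicative M) →ₐ[A'] L :=
      (Ideal.Quotient.liftₐ (RingHom.ker (T.Phi v)) (Ideal.Quotient.mkₐ A' P) (fun a ha =>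
        Ideal.Quotient.eq_zero_iff_mem.2 (hv ha))).comp
        (Ideal.quotientKerAlgEquivOfSurjective (T.Phi_surjective hC v)).symm.toAlgHom
    have hg : g.comp (T.Phi v) = Ideal.Quotient.mkₐ A' P := by
      apply AlgHom.ext
      intro x
      have h1 : (Ideal.quotientKerAlgEquivOfSurjective (T.Phi_surjective hC v)).symm (T.Phi v x) =
          Ideal.Quotient.mk _ x := by
        rw [AlgEquiv.symm_apply_eq]
        rfl
      change Ideal.Quotient.liftₐ (RingHom.ker (T.Phi v)) (Ideal.Quotient.mkₐ A' P) (fun a ha =>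
        Ideal.Quotient.eq_zero_iff_mem.2 (hv ha)) ((Ideal.quotientKerAlgEquivOfSurjective
        (T.Phi_surjective hC v)).symm (T.Phi v x)) = _
      rw [h1]
      rfl
    let χ₀ : Multiplicative M →* L := (g : _ →* L).comp (MonoidAlgebra.of A' (Multiplicative M))
    refine ⟨χ₀.toHomUnits, ?_⟩
    rw [← hg]
    congr 1
    apply AlgHom.ext
    intro z
    induction z using MonoidAlgebra.induction_linear with
    | zero => rw [map_zero, map_zero]
    | add x y hx hy => rw [map_add, map_add, hx, hy]
    | single m a =>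
      rw [ev_single, MonoidHom.coe_toHomUnits, ← AlgHom.commutes g, MonoidAlgebra.coe_algebraMap]
      change g (single 1 a) * g (single m 1) = _
      rw [← map_mul, MonoidAlgebra.single_mul_single, one_mul, mul_one]
  obtain ⟨χ, hχ⟩ := key w (le_sup_left.trans hle)
  obtain ⟨χ', hχ'⟩ := key w' (le_sup_right.trans hle)
  apply hne
  refine T.unique L w w' χ χ' ?_
  apply AlgHom.ext
  intro b
  rw [← T.ev_pt, ← T.ev_pt]
  have h1 := congrArg (fun f => f (1 ⊗ₜ b)) (hχ.trans hχ'.symm)
  simp only [AlgHom.comp_apply, Phi_tmul, one_smul] at h1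
  exact h1

/-- `A' ⊗ B → ∏ A'[M]` is surjective. -/
lemma exists_Phi_eq (hC : C.Free) (y : T.W → MonoidAlgebra A' (Multiplicative M)) :
    ∃ x : A' ⊗[A] B, ∀ w, T.Phi w x = y w := by
  choose z hz using fun w => T.Phi_surjective hC w (y w)
  obtain ⟨x, hx⟩ := Ideal.pi_quotient_surjective (I := fun w => RingHom.ker (T.Phi w))
    (fun w w' h => T.isCoprime_ker hC h) (fun w => Ideal.Quotient.mk _ (z w))
  refine ⟨x, fun w => ?_⟩
  have h1 := hx w
  rw [Ideal.Quotient.eq, RingHom.mem_ker, map_sub, sub_eq_zero] at h1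
  rw [h1, hz]

/-- the point `p_w` on the degree zero part -/
noncomputable def Psi (w : T.W) : A' ⊗[A] C.A0 →ₐ[A'] A' :=
  Algebra.TensorProduct.lift (Algebra.ofId _ _) ((T.p w).comp C.A0.val) (fun _ _ => Commute.all _ _)

lemma Psi_tmul (w : T.W) (a : A') (b : C.A0) : T.Psi w (a ⊗ₜ b) = a * T.p w b := by
  rw [Psi, Algebra.TensorProduct.lift_tmul]
  rfl

variable (C A') in
/-- the inclusion `A' ⊗ B₀ → A' ⊗ B` -/
noncomputable def inc : A' ⊗[A] C.A0 →ₗ[A] A' ⊗[A] B := LinearMap.lTensor A' C.A0.val.toLinearMap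

variable (C A') in
/-- the projection `A' ⊗ B → A' ⊗ B₀` -/
noncomputable def prj : A' ⊗[A] B →ₗ[A] A' ⊗[A] C.A0 :=
  LinearMap.lTensor A' (C.proj0.restrictScalars A)

lemma prj_inc (x : A' ⊗[A] C.A0) : prj C A' (inc C A' x) = x := by
  induction x using TensorProduct.induction_on with
  | zero => rw [map_zero, map_zero]
  | add x y hx hy => rw [map_add, map_add, hx, hy]
  | tmul a b =>
    change (a ⊗ₜ C.proj0 (b : B) : A' ⊗[A] C.A0) = _
    rw [C.proj0_of_mem]

lemma Phi_inc (w : T.W) (x : A' ⊗[A] C.A0) : T.Phi w (inc C A' x) = single 1 (T.Psi w x) := by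
  induction x using TensorProduct.induction_on with
  | zero => rw [map_zero, map_zero, map_zero, single_zero]
  | add x y hx hy => rw [map_add, map_add, hx, hy, map_add, single_add]
  | tmul a b =>
    change T.Phi w (a ⊗ₜ (b : B)) = _
    rw [Phi_tmul, T.pt_of_isHom w b.2, Psi_tmul, MonoidAlgebra.smul_single]
    rfl

lemma coeff_Phi (w : T.W) (z : A' ⊗[A] B) : (T.Phi w z).coeff 1 = T.Psi w (prj C A' z) := by
  induction z using TensorProduct.induction_on with
  | zero => rw [map_zero, map_zero, map_zero]; rfl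
  | add x y hx hy => rw [map_add, map_add, map_add, MonoidAlgebra.coeff_add, Finsupp.add_apply, hx, hy]
  | tmul a b =>
    change _ = T.Psi w (a ⊗ₜ C.proj0 b)
    rw [Phi_tmul, Psi_tmul, MonoidAlgebra.coeff_smul_apply, smul_eq_mul]
    congr 1

lemma Psi_bijective (hC : C.Free) : Function.Bijective (fun (x : A' ⊗[A] C.A0) (w : T.W) => T.Psi w x) := by
  constructor
  · intro x y hxy
    rw [← sub_eq_zero, ← prj_inc (x - y)]
    have h1 : inc C A' (x - y) = 0 := by
      apply T.Phi_injective
      intro w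
      have h2 : T.Psi w x = T.Psi w y := congrFun hxy w
      rw [Phi_inc, map_sub, h2, sub_self, single_zero]
    rw [h1, map_zero]
  · intro y
    obtain ⟨z, hz⟩ := T.exists_Phi_eq hC (fun w => single 1 (y w))
    refine ⟨prj C A' z, funext fun w => ?_⟩
    change T.Psi w (prj C A' z) = _
    rw [← coeff_Phi, hz, MonoidAlgebra.coeff_single, Finsupp.single_eq_same]

end LocTriv

section cover

variable {C : Coact A B M}

/-- The degree zero part is finite étale over a finite product of flat algebras over which it splits. -/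
lemma finite_etale_of_pi (hC : C.Free) {I : Type u} [Finite I] (F : I → Type u) [∀ i, CommRing (F i)]
    [∀ i, Algebra A (F i)] (T : ∀ i, LocTriv C (F i)) :
    Module.Finite (∀ i, F i) ((∀ i, F i) ⊗[A] C.A0) ∧ Algebra.Etale (∀ i, F i) ((∀ i, F i) ⊗[A] C.A0) := by
  classical
  have := Fintype.ofFinite I
  let _ (i : I) : Algebra (∀ i, F i) (F i) := (Pi.evalAlgHom A F i).toAlgebra
  have htow : ∀ i, IsScalarTower A (∀ i, F i) (F i) := fun i => IsScalarTower.of_algebraMap_eq fun _ => rfl
  have hloc (i : I) : IsLocalization.Away (Pi.single i (1 : F i)) (F i) := by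
    apply IsLocalization.away_of_isIdempotentElem
    · simp [IsIdempotentElem, ← Pi.single_mul_left]
    · apply RingHom.ker_evalRingHom
    · apply (Pi.evalRingHom F i).surjective
  have het (i : I) : Algebra.Etale (∀ i, F i) (F i) := .of_isLocalizationAway (Pi.single i (1 : F i))
  have hfin (i : I) : Module.Finite (∀ i, F i) (F i) :=
    Module.Finite.of_surjective (Algebra.linearMap (∀ i, F i) (F i)) (Pi.evalRingHom F i).surjective
  -- the index set of all the sheets
  let J := Σ i, (T i).W
  let E := ∀ j : J, F j.1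
  let θ : (∀ i, F i) ⊗[A] C.A0 →ₐ[∀ i, F i] E :=
    Algebra.TensorProduct.lift (Algebra.ofId _ _)
      (AlgHom.pi fun j : J => ((T j.1).p j.2).comp C.A0.val) (fun _ _ => Commute.all _ _)
  have hθ : ∀ (x : (∀ i, F i) ⊗[A] C.A0) (j : J),
      θ x j = (T j.1).Psi j.2 (TensorProduct.piLeft A C.A0 F x j.1) := by
    intro x j
    induction x using TensorProduct.induction_on with
    | zero => rw [map_zero, map_zero, Pi.zero_apply, Pi.zero_apply, map_zero]
    | add x y hx hy => rw [map_add, map_add, Pi.add_apply, Pi.add_apply, map_add, hx, hy]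
    | tmul a b =>
      have h1 : TensorProduct.piLeft A C.A0 F (a ⊗ₜ b) j.1 = a j.1 ⊗ₜ b := by simp
      rw [h1, LocTriv.Psi_tmul, Algebra.TensorProduct.lift_tmul]
      rfl
  have hbij : Function.Bijective θ := by
    constructor
    · intro x y hxy
      apply (TensorProduct.piLeft A C.A0 F).injective
      funext i
      apply ((T i).Psi_bijective hC).1
      funext w
      change (T i).Psi w _ = (T i).Psi w _
      rw [← hθ x ⟨i, w⟩, ← hθ y ⟨i, w⟩, hxy]
    · intro y
      choose z hz using fun i => ((T i).Psi_bijective hC).2 (fun w => y ⟨i, w⟩)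
      refine ⟨(TensorProduct.piLeft A C.A0 F).symm z, funext fun j => ?_⟩
      rw [hθ, LinearEquiv.apply_symm_apply]
      exact congrFun (hz j.1) j.2
  let e := AlgEquiv.ofBijective θ hbij
  have : Finite J := inferInstance
  exact ⟨Module.Finite.equiv e.symm.toLinearEquiv, Algebra.Etale.of_equiv e.symm⟩

/-- **Torsors under extensions of finite constant groups by split tori over semilocal rings are trivialised
by finite étale covers.** -/
theorem exists_cover (hA : {m : Ideal A | m.IsMaximal}.Finite) [Module.Free ℤ M] (hC : C.Free)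
    (h : ∀ m : Ideal A, m.IsMaximal → ∃ (A' : Type u) (_ : CommRing A') (_ : Algebra A A'),
      Module.Flat A A' ∧ m.map (algebraMap A A') ≠ ⊤ ∧ Nonempty (LocTriv C A')) :
    Module.Finite A C.A0 ∧ Algebra.Etale A C.A0 ∧ Module.FaithfullyFlat A C.A0 ∧
      Nonempty (B →ₐ[A] C.A0) := by
  classical
  let I := {m : Ideal A | m.IsMaximal}
  have hI : Finite I := hA
  have := Fintype.ofFinite I
  choose F hF1 hF2 hF3 hF4 hF5 using fun i : I => h i.1 i.2
  let T := fun i => (hF5 i).some
  obtain ⟨h1, h2⟩ := finite_etale_of_pi hC F T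
  have hflat : Module.Flat A (∀ i, F i) :=
    .of_linearEquiv (DFinsupp.linearEquivFunOnFintype (R := A) (M := F)).symm
  have hff : Module.FaithfullyFlat A (∀ i, F i) := by
    refine ⟨fun m hm heq => ?_⟩
    have h3 := hF4 ⟨m, hm⟩
    apply h3
    rw [Ideal.eq_top_iff_one]
    have h4 : (1 : ∀ i, F i) ∈ m • (⊤ : Submodule A (∀ i, F i)) := by rw [heq]; trivial
    let ev : (∀ i, F i) →ₗ[A] F ⟨m, hm⟩ := LinearMap.proj _
    have h5 : ev 1 ∈ (m • (⊤ : Submodule A (∀ i, F i))).map ev := ⟨1, h4, rfl⟩
    rw [Submodule.map_smul''] at h5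
    have h6 : m • Submodule.map ev ⊤ ≤ (m.map (algebraMap A (F ⟨m, hm⟩))).restrictScalars A := by
      rw [Submodule.smul_le]
      intro r hr x _
      change r • x ∈ m.map (algebraMap A (F ⟨m, hm⟩))
      rw [Algebra.smul_def]
      exact Ideal.mul_mem_right _ _ (Ideal.mem_map_of_mem _ hr)
    exact h6 h5
  have hfin : Module.Finite A C.A0 := Module.Finite.of_finite_tensorProduct_of_faithfullyFlat (∀ i, F i)
  have het : Algebra.Etale A C.A0 := Algebra.Etale.of_etale_tensorProduct_of_faithfullyFlat (∀ i, F i)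
  have hff0 : Module.FaithfullyFlat A C.A0 := by
    have : Module.Flat A C.A0 := inferInstance
    refine ⟨fun m hm heq => ?_⟩
    have h3 := hF4 ⟨m, hm⟩
    apply h3
    rw [Ideal.eq_top_iff_one]
    have h4 : (1 : C.A0) ∈ m • (⊤ : Submodule A C.A0) := by rw [heq]; trivial
    let w : (T ⟨m, hm⟩).W := Classical.arbitrary _
    let ev : C.A0 →ₗ[A] F ⟨m, hm⟩ := (((T ⟨m, hm⟩).p w).comp C.A0.val).toLinearMap
    have h5 : ev 1 ∈ (m • (⊤ : Submodule A C.A0)).map ev := ⟨1, h4, rfl⟩
    rw [Submodule.map_smul''] at h5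
    have h6 : m • Submodule.map ev ⊤ ≤ (m.map (algebraMap A (F ⟨m, hm⟩))).restrictScalars A := by
      rw [Submodule.smul_le]
      intro r hr x _
      change r • x ∈ m.map (algebraMap A (F ⟨m, hm⟩))
      rw [Algebra.smul_def]
      exact Ideal.mul_mem_right _ _ (Ideal.mem_map_of_mem _ hr)
    have h7 := h6 h5
    have h8 : ev 1 = 1 := map_one (((T ⟨m, hm⟩).p w).comp C.A0.val)
    rw [h8] at h7
    exact h7
  have hmax := finite_maximalSpectrum A C.A0 hA
  obtain ⟨σ⟩ := exists_section hC
  exact ⟨hfin, het, hff0, ⟨σ.restrictScalars A⟩⟩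

end cover

end Groth.Agent.RedSub.H669.GradedCover
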