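import Groth.Agent.Sga3B.AdGrad
import Mathlib.RingTheory.PicardGroup
import Mathlib.RingTheory.QuasiFinite.Basic
import Mathlib.LinearAlgebra.FreeModule.Basic

/-!
# Sections of torsors under split tori over semilocal bases, in terms of gradings

`C : Coact A B M` a strong grading of the `A`-algebra `B` by the free abelian group `M`
(a free action of `D(M)` on `Spec B`).

* `exists_section`: if the degree zero part `C.A0` has trivial Picard group, then `C.A0 → B` has a retraction
  (the `D(M)`-torsor `Spec B ⟶ Spec C.A0` is trivial).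
* `finite_maximalSpectrum`: a finite algebra over a semilocal ring is semilocal.
-/

set_option autoImplicit false
universe u

open MonoidAlgebra
open Groth.Agent.Sga3B.AdGrad

namespace Groth.Agent.RedSub.H669.GradedSection

section

variable {A B : Type u} [CommRing A] [CommRing B] [Algebra A B] {M : Type} [AddCommGroup M]
variable (C : Coact A B M)

lemma isHom_one : C.IsHom 0 (1 : B) := by
  have := C.isHom_algebraMap 1
  rwa [map_one] at this

/-- the homogeneous elements of degree `m` as a module over the degree zero part -/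
def gr (m : M) : Submodule C.A0 B where
  carrier := {a | C.IsHom m a}
  add_mem' ha hb := Coact.IsHom.add ha hb
  zero_mem' := C.isHom_zero m
  smul_mem' c x hx := by
    change C.IsHom m ((c : B) * x)
    have := Coact.IsHom.mul (C := C) c.2 hx
    rwa [zero_add] at this

lemma mem_gr {m : M} {x : B} : x ∈ gr C m ↔ C.IsHom m x := Iff.rfl

variable {C}

lemma gr_mul_gr_neg (hC : C.Free) (m : M) : gr C (-m) * gr C m = 1 := by
  apply le_antisymm
  · rw [Submodule.mul_le]
    intro x hx y hy
    have h0 := Coact.IsHom.mul (C := C) hx hy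
    rw [neg_add_cancel] at h0
    exact Submodule.algebraMap_mem (⟨x * y, h0⟩ : C.A0)
  · rw [Submodule.one_le]
    obtain ⟨k, u, v, hu, hv, huv⟩ := hC m
    rw [← huv]
    exact sum_mem fun i _ => Submodule.mul_mem_mul (hu i) (hv i)

/-- homogeneous units in every degree -/
lemma exists_unit (hC : C.Free) [Subsingleton (CommRing.Pic C.A0)] (m : M) :
    ∃ u : Bˣ, C.IsHom m (u : B) := by
  have h1 : gr C m * gr C (-m) = 1 := by
    have := gr_mul_gr_neg hC (-m)
    rwa [neg_neg] at this
  let I : (Submodule C.A0 B)ˣ := ⟨gr C m, gr C (-m), h1, gr_mul_gr_neg hC m⟩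
  have h2 : I ∈ (Submodule.unitsToPic C.A0 B).ker := by
    rw [MonoidHom.mem_ker]
    exact Subsingleton.elim _ _
  rw [Submodule.ker_unitsToPic] at h2
  obtain ⟨x, hx⟩ := h2
  refine ⟨x, ?_⟩
  have h3 : Submodule.span C.A0 {(x : B)} = gr C m := congrArg Units.val hx
  rw [← mem_gr, ← h3]
  exact Submodule.mem_span_singleton_self _

lemma isHom_inv {m : M} {x y : B} (hx : C.IsHom m x) (hxy : x * y = 1) : C.IsHom (-m) y := by
  rw [Coact.IsHom] at hx ⊢
  have h1 : C.ρ x * C.ρ y = 1 := by rw [← map_mul, hxy, map_one]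
  have h2 : C.ρ x * MonoidAlgebra.single (Multiplicative.ofAdd (-m)) y = 1 := by
    rw [hx, MonoidAlgebra.single_mul_single, hxy, ← ofAdd_add, add_neg_cancel]; rfl
  calc C.ρ y = C.ρ y * (C.ρ x * MonoidAlgebra.single (Multiplicative.ofAdd (-m)) y) := by
        rw [h2, mul_one]
    _ = (C.ρ x * C.ρ y) * MonoidAlgebra.single (Multiplicative.ofAdd (-m)) y := by ring
    _ = _ := by rw [h1, one_mul]

/-- a family of homogeneous units in all degrees, multiplicative in the degree -/
lemma exists_units (hC : C.Free) [Subsingleton (CommRing.Pic C.A0)] [Module.Free ℤ M] :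
    ∃ χ : Multiplicative M →* Bˣ, ∀ m : M, C.IsHom m (χ (Multiplicative.ofAdd m) : B) := by
  let b := Module.Free.chooseBasis ℤ M
  choose u hu using fun i => exists_unit hC (b i)
  let F : M →+ Additive Bˣ :=
    (b.constr ℤ fun i => Additive.ofMul (u i) : M →ₗ[ℤ] Additive Bˣ).toAddMonoidHom
  have hF : ∀ i, F (b i) = Additive.ofMul (u i) := fun i => b.constr_basis ℤ _ i
  let S : AddSubgroup M :=
    { carrier := {m | C.IsHom m ((F m).toMul : B)}
      zero_mem' := by
        change C.IsHom 0 ((F 0).toMul : B)
        rw [map_zero, toMul_zero, Units.val_one]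
        exact isHom_one C
      add_mem' := by
        intro m n hm hn
        change C.IsHom (m + n) ((F (m + n)).toMul : B)
        rw [map_add, toMul_add, Units.val_mul]
        exact Coact.IsHom.mul hm hn
      neg_mem' := by
        intro m hm
        change C.IsHom (-m) ((F (-m)).toMul : B)
        rw [map_neg, toMul_neg]
        exact isHom_inv hm (Units.mul_inv _) }
  have hS : ∀ m, m ∈ S := by
    intro m
    have h2 : (⊤ : Submodule ℤ M) ≤ S.toIntSubmodule := by
      rw [← b.span_eq, Submodule.span_le]
      rintro _ ⟨i, rfl⟩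
      change C.IsHom (b i) ((F (b i)).toMul : B)
      rw [hF]
      exact hu i
    exact h2 (Submodule.mem_top (x := m))
  exact ⟨AddMonoidHom.toMultiplicativeLeft F, fun m => hS m⟩

/-- The `D(M)`-torsor `Spec B ⟶ Spec B₀` is trivial if `Pic B₀ = 0`. -/
theorem exists_section (hC : C.Free) [Subsingleton (CommRing.Pic C.A0)] [Module.Free ℤ M] :
    Nonempty (B →ₐ[C.A0] C.A0) := by
  obtain ⟨χ, hχ⟩ := exists_units hC
  -- the retraction `b ↦ ∑ b_m χ(m)⁻¹`
  let σ : B →ₐ[A] B := Coact.act (C := C) (AlgHom.id A B) χ⁻¹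
  have hσ : ∀ (m : M) (x : B), C.IsHom m x → σ x = x * ((χ (Multiplicative.ofAdd m))⁻¹ : Bˣ) := by
    intro m x hx
    exact Coact.act_of_isHom _ _ hx
  have hσ0 : ∀ b, σ b ∈ C.A0 := by
    intro b
    rw [← C.sum_comp b _ subset_rfl, map_sum]
    refine sum_mem fun m _ => ?_
    rw [hσ m _ (C.isHom_comp m b)]
    have h2 := Coact.IsHom.mul (C.isHom_comp m b) (isHom_inv (hχ m) (Units.mul_inv _))
    rwa [add_neg_cancel] at h2
  refine ⟨{ toFun := fun b => ⟨σ b, hσ0 b⟩
            map_one' := Subtype.ext (map_one σ)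
            map_mul' := fun x y => Subtype.ext (map_mul σ x y)
            map_zero' := Subtype.ext (map_zero σ)
            map_add' := fun x y => Subtype.ext (map_add σ x y)
            commutes' := fun c => Subtype.ext ?_ }⟩
  change σ (c : B) = c
  rw [hσ 0 _ c.2, ofAdd_zero, map_one, inv_one, Units.val_one, mul_one]

end

/-- A finite algebra over a semilocal ring is semilocal. -/
theorem finite_maximalSpectrum (A B : Type u) [CommRing A] [CommRing B] [Algebra A B]
    [Module.Finite A B] (hA : {m : Ideal A | m.IsMaximal}.Finite) : Finite (MaximalSpectrum B) := by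
  have hs : {p : PrimeSpectrum A | p.asIdeal.IsMaximal}.Finite := by
    refine Set.Finite.of_finite_image (f := PrimeSpectrum.asIdeal) (hA.subset ?_) ?_
    · rintro _ ⟨p, hp, rfl⟩
      exact hp
    · intro p _ q _ h
      exact PrimeSpectrum.ext h
  have h1 := Algebra.QuasiFinite.finite_comap_preimage (R := A) (S := B) hs
  have h2 := h1.to_subtype
  refine Finite.of_injective (β := (PrimeSpectrum.comap (algebraMap A B) ⁻¹'
    {p : PrimeSpectrum A | p.asIdeal.IsMaximal} : Set _))
    (fun q => ⟨⟨q.asIdeal, q.isMaximal.isPrime⟩, ?_⟩) ?_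
  · have := q.isMaximal
    exact Ideal.isMaximal_comap_of_isIntegral_of_isMaximal (R := A) q.asIdeal
  · intro q q' h
    exact MaximalSpectrum.ext (congrArg (fun x => x.1.asIdeal) h)

end Groth.Agent.RedSub.H669.GradedSection
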