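import Groth.Agent.RedSub.H669.LocTorus
import Groth.Agent.Sga3B.SplitFin885
import Groth.Agent.Sga3B.TorConj
import Groth.Agent.Sga3B.TorusEtLoc920
import Groth.Agent.FlatA.EtaleSections

/-!
# Local structure of a pair of maximal tori, the first of which is split

`exists_loc`: étale locally on the base, a split maximal torus `T₀` is the torus of a splitting and another maximal
torus `T` is conjugate to `T₀`.
-/

set_option autoImplicit false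
universe u
open CategoryTheory MonoidalCategory CartesianMonoidalCategory MonObj GrpObj AlgebraicGeometry Limits

namespace Groth.Agent.RedSub.H669.LocExist

open Groth.Agent.Sga3B Groth.Agent.Sga3B.DSPts Groth.Agent.Sga3B.IsomCore Groth.Agent.Sga3B.RedIso
  Groth.Agent.Sga3B.BcIso Groth.Agent.Sga3B.SplitIso848
  Groth.Agent.Sga3B.InfConj Groth.Agent.Sga3B.Parab Groth.Agent.Sga3B.Parab.ConjPt Groth.Agent.Sga3B.ResAlg

lemma mem_iff_of_iso {S : Scheme.{u}} {G P Q : Over S} {p : P ⟶ G} {q : Q ⟶ G} (e : P ≅ Q)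
    (h : p = e.hom ≫ q) {X : Over S} (y : X ⟶ G) : Mem p y ↔ Mem q y := by
  constructor
  · rintro ⟨x, rfl⟩
    exact ⟨x ≫ e.hom, by rw [h, Category.assoc]⟩
  · rintro ⟨x, rfl⟩
    exact ⟨x ≫ e.inv, by rw [h, Category.assoc, Iso.inv_hom_id_assoc]⟩

lemma conj_iff_of_iso {S : Scheme.{u}} {G P Q P' Q' : Over S} [GrpObj G] {p : P ⟶ G} {q : Q ⟶ G} {p' : P' ⟶ G}
    {q' : Q' ⟶ G} (e : P ≅ Q) (h : p = e.hom ≫ q) (e' : P' ≅ Q') (h' : p' = e'.hom ≫ q') {X : Over S} (g : X ⟶ G) :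
    Conj p p' g ↔ Conj q q' g := by
  simp only [Conj, mem_iff_of_iso e h, mem_iff_of_iso e' h']

/-- Two split maximal tori are conjugate over smooth neighbourhoods. -/
theorem exists_conj {S : Scheme.{u}} {G T₀ T : Over S} [GrpObj G] [GrpObj T₀] [GrpObj T]
    (hG : Red.IsReductive G) (i₀ : T₀ ⟶ G) (i : T ⟶ G) (h₀ : Red.IsMaximalTorus i₀) (hT : Red.IsMaximalTorus i)
    {M : Type} [AddCommGroup M] (hs : Red.IsSplitTorusWith M T₀) {M' : Type} [AddCommGroup M']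
    (hs' : Red.IsSplitTorusWith M' T) (s : S) :
    ∃ (V : Over S) (_ : Smooth V.hom) (_ : s ∈ Set.range V.hom) (g : V ⟶ G), Conj i₀ i g := by
  obtain ⟨e₁⟩ := hs
  obtain ⟨e₂⟩ := hs'
  let a : Red.DS S M ⟶ G := (und e₁).inv ≫ i₀
  let b : Red.DS S M' ⟶ G := (und e₂).inv ≫ i
  have hia : i₀ = (und e₁).hom ≫ a := (Iso.hom_inv_id_assoc (und e₁) i₀).symm
  have hib : i = (und e₂).hom ≫ b := (Iso.hom_inv_id_assoc (und e₂) i).symm
  have ha : Red.IsMaximalTorus a := AlgBc.isMaximalTorus_of_arrow e₁ (Iso.refl _) (by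
    rw [← hia]
    exact Category.comp_id _) h₀
  have hb : Red.IsMaximalTorus b := AlgBc.isMaximalTorus_of_arrow e₂ (Iso.refl _) (by
    rw [← hib]
    exact Category.comp_id _) hT
  obtain ⟨V, h1, h2, g, h, h3⟩ := TorConj.exists_smooth_conj hG a b ha hb s
  refine ⟨V, h1, h2, g, (conj_iff_of_iso (und e₁) hia (und e₂) hib g).2 ?_⟩
  intro X x y
  constructor
  · rintro ⟨t, rfl⟩
    rw [h3 X x t]
    exact ⟨t ≫ Red.DSmap S h.toAddMonoidHom, by rw [Category.assoc]⟩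
  · rintro ⟨t, ht⟩
    refine ⟨t ≫ Red.DSmap S h.symm.toAddMonoidHom, ?_⟩
    have h4 := h3 X x (t ≫ Red.DSmap S h.symm.toAddMonoidHom)
    have h5 : (t ≫ Red.DSmap S h.symm.toAddMonoidHom) ≫ Red.DSmap S h.toAddMonoidHom = t := by
      rw [IsomCore.DSmap_comp]
      have h6 : h.symm.toAddMonoidHom.comp h.toAddMonoidHom = AddMonoidHom.id _ := by
        ext m
        exact h.symm_apply_apply m
      rw [h6, IsomCore.DSmap_id]
    have h7 : (t ≫ Red.DSmap S h.symm.toAddMonoidHom) ≫ Red.DSmap S h.toAddMonoidHom ≫ b =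
        ((t ≫ Red.DSmap S h.symm.toAddMonoidHom) ≫ Red.DSmap S h.toAddMonoidHom) ≫ b :=
      (Category.assoc _ _ _).symm
    rw [h7, h5, ht] at h4
    exact mul_left_cancel (mul_right_cancel h4)

/-- The torus of a splitting over an iterated base change. -/
lemma map_eq_of_comp {S S₂ S₃ : Scheme.{u}} (v₃ : S₃ ⟶ S₂) (v₂ : S₂ ⟶ S) {G T₀ : Over S} [GrpObj G] [GrpObj T₀]
    (i₀ : T₀ ⟶ G) (D : Red.SplitRed (Red.bc v₃ (Red.bc v₂ G)))
    (τ : Grp.mk (Red.bc v₃ (Red.bc v₂ T₀)) ≅ Grp.mk D.T)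
    (hτ : (Over.pullback v₃).map ((Over.pullback v₂).map i₀) = τ.hom.hom.hom ≫ D.i) :
    (Over.pullback (v₃ ≫ v₂)).map i₀ = (bcCompIso v₃ v₂ T₀ ≪≫ τ).hom.hom.hom ≫
      (splitOfIso (bcCompIso v₃ v₂ G).symm D).i := by
  have h1 := SplitGlue904.bcCompIso_naturality v₃ v₂ i₀
  have h3 : (bcCompIso v₃ v₂ G).hom.hom.hom ≫ (bcCompIso v₃ v₂ G).inv.hom.hom = 𝟙 _ :=
    congrArg (fun z => z.hom.hom) (bcCompIso v₃ v₂ G).hom_inv_id
  rw [hτ] at h1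
  change (Over.pullback (v₃ ≫ v₂)).map i₀ =
    ((bcCompIso v₃ v₂ T₀).hom.hom.hom ≫ τ.hom.hom.hom) ≫ D.i ≫
      (bcCompIso v₃ v₂ G).inv.hom.hom
  rw [Category.assoc, ← Category.assoc τ.hom.hom.hom, ← Category.assoc, ← h1, Category.assoc, h3,
    Category.comp_id]

/-- **Étale local structure of a pair of maximal tori.** -/
theorem exists_loc {S : Scheme.{u}} {G T₀ T : Over S} [GrpObj G] [GrpObj T₀] [GrpObj T]
    (hG : Red.IsReductive G) (i₀ : T₀ ⟶ G) (i : T ⟶ G) (h₀ : Red.IsMaximalTorus i₀) (hT : Red.IsMaximalTorus i)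
    {M : Type} [AddCommGroup M] [Module.Finite ℤ M] [Module.Free ℤ M] (hs : Red.IsSplitTorusWith M T₀) (s : S) :
    ∃ (R : CommRingCat.{u}) (v : Spec R ⟶ S), Etale v ∧ s ∈ Set.range v ∧
      ∃ (D : Red.SplitRed (Red.bc v G)) (τ : Grp.mk (Red.bc v T₀) ≅ Grp.mk D.T) (g : Over.mk v ⟶ G),
        (Over.pullback v).map i₀ = τ.hom.hom.hom ≫ D.i ∧ Conj i₀ i g := by
  obtain ⟨B, _, v₁, r, hv₁, ⟨s₁, rfl⟩, hsp⟩ := TorusEtLoc920.exists_etale_split T hT.2.2.1 s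
  have hG₁ := AlgBc.isReductive_bc v₁ hG
  obtain ⟨V, hV, hsV, g₁, hg₁⟩ := exists_conj hG₁ _ _ (AlgBc.isMaximalTorus_bc v₁ h₀)
    (AlgBc.isMaximalTorus_bc v₁ hT) (TorusAlgClosed.isSplitTorusWith_bc v₁ hs) hsp s₁
  obtain ⟨S₂, f₂, s₂, h3, rfl, j, hj⟩ := Groth.Agent.FlatA.EtaleSections.exists_section V.hom s₁ hsV
  -- the conjugating point
  have hg₂ := hg₁.comp (Over.homMk j hj : Over.mk f₂ ⟶ V)
  rw [LC.conj_bc_iff] at hg₂
  let v₂ : S₂ ⟶ S := f₂ ≫ v₁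
  have hv₂ : Etale v₂ := inferInstance
  obtain ⟨e⟩ := TorusAlgClosed.isSplitTorusWith_bc v₂ hs
  obtain ⟨R, v₃, hv₃, ⟨s₃, rfl⟩, D, τ, hD, hτ⟩ := SplitFin885.splitTRed (AlgBc.isReductive_bc v₂ hG)
    ((Over.pullback v₂).map i₀) (AlgBc.isMaximalTorus_bc v₂ h₀) e s₂
  let w : Over.mk (v₃ ≫ v₂) ⟶ (Over.map v₁).obj (Over.mk f₂) := Over.homMk v₃ rfl
  refine ⟨R, v₃ ≫ v₂, inferInstance, ⟨s₃, ?_⟩, splitOfIso (bcCompIso v₃ v₂ G).symm D, bcCompIso v₃ v₂ T₀ ≪≫ τ,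
    w ≫ (bcEquiv v₁ _ G).symm ((Over.homMk j hj : Over.mk f₂ ⟶ V) ≫ g₁),
    map_eq_of_comp v₃ v₂ i₀ D τ hτ, hg₂.comp w⟩
  rw [Scheme.Hom.comp_apply, Scheme.Hom.comp_apply]

end Groth.Agent.RedSub.H669.LocExist
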