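import Groth.Agent.Sga3B.AdPts
import Groth.Agent.Sga3B.TorTransp

/-!
# The coaction of a split torus on a closed subscheme stable under translations

* `quot`: the coaction on a quotient `B` of the comodule algebra `A`.
* `ptMap_act`: the action in terms of points of the group scheme.
* `exists_coact`: `z : D(N) ⟶ Spec A` a closed subgroup, `c : Spec B ⟶ Spec A` a closed subscheme stable under right
  translations by `D(N)`: there is a free coaction of `D(N)` on `B`, compatible with right translations.
-/

set_option autoImplicit false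
universe u
open CategoryTheory MonoidalCategory CartesianMonoidalCategory MonObj GrpObj AlgebraicGeometry Limits

namespace Groth.Agent.RedSub.H669.QuotCoact

open Groth.Agent.Sga3B Groth.Agent.Sga3B.AdGrad Groth.Agent.Sga3B.AdPts Groth.Agent.Sga3B.FreeBC
  Groth.Agent.Sga3B.DSPts Groth.Agent.Sga3B.InfConj

section alg

variable {R A B : Type u} [CommRing R] [CommRing A] [CommRing B] [Algebra R A] [Algebra R B]
  {N : Type} [AddCommGroup N]
variable (C : Coact R A N) (π : A →ₐ[R] B) (hπ : Function.Surjective π)
  (hk : ∀ a, π a = 0 → MonoidAlgebra.mapAlgHom (Multiplicative N) π (C.ρ a) = 0)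

/-- the coaction on a quotient -/
noncomputable def quotRho : B →ₐ[R] MonoidAlgebra B (Multiplicative N) :=
  (Ideal.Quotient.liftₐ (RingHom.ker π) ((MonoidAlgebra.mapAlgHom (Multiplicative N) π).comp C.ρ)
    (fun a ha => hk a ha)).comp (Ideal.quotientKerAlgEquivOfSurjective hπ).symm.toAlgHom

lemma quotRho_apply (a : A) :
    quotRho C π hπ hk (π a) = MonoidAlgebra.mapAlgHom (Multiplicative N) π (C.ρ a) := by
  have h1 : (Ideal.quotientKerAlgEquivOfSurjective hπ).symm (π a) = Ideal.Quotient.mk _ a := by
    rw [AlgEquiv.symm_apply_eq]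
    rfl
  change Ideal.Quotient.liftₐ (RingHom.ker π) ((MonoidAlgebra.mapAlgHom (Multiplicative N) π).comp C.ρ)
    (fun a ha => hk a ha) ((Ideal.quotientKerAlgEquivOfSurjective hπ).symm (π a)) = _
  rw [h1]
  rfl

/-- the coaction on a quotient -/
noncomputable def quot : Coact R B N where
  ρ := quotRho C π hπ hk
  counit := by
    intro b
    obtain ⟨a, rfl⟩ := hπ b
    rw [quotRho_apply]
    conv_rhs => rw [← C.counit a]
    generalize C.ρ a = f
    induction f using MonoidAlgebra.induction_linear with
    | zero => simp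
    | add x y hx hy =>
      rw [map_add, MonoidAlgebra.coeff_add, MonoidAlgebra.coeff_add,
        Finsupp.sum_add_index' (fun _ => rfl) (fun _ _ _ => rfl),
        Finsupp.sum_add_index' (fun _ => rfl) (fun _ _ _ => rfl), map_add, hx, hy]
    | single m b =>
      rw [MonoidAlgebra.mapAlgHom_single, MonoidAlgebra.coeff_single, MonoidAlgebra.coeff_single,
        Finsupp.sum_single_index rfl, Finsupp.sum_single_index rfl]
  coassoc := by
    intro b m
    obtain ⟨a, rfl⟩ := hπ b
    rw [quotRho_apply, MonoidAlgebra.coeff_mapAlgHom]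
    erw [quotRho_apply]
    rw [C.coassoc, MonoidAlgebra.mapAlgHom_single]

lemma quot_isHom {n : N} {a : A} (ha : C.IsHom n a) : (quot C π hπ hk).IsHom n (π a) := by
  change quotRho C π hπ hk (π a) = _
  rw [quotRho_apply, (ha : C.ρ a = _), MonoidAlgebra.mapAlgHom_single]

lemma quot_free (hC : C.Free) : (quot C π hπ hk).Free := by
  intro n
  obtain ⟨k, u, v, hu, hv, huv⟩ := hC n
  refine ⟨k, fun i => π (u i), fun i => π (v i), fun i => quot_isHom C π hπ hk (hu i),
    fun i => quot_isHom C π hπ hk (hv i), ?_⟩
  rw [← map_one π, ← huv, map_sum]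
  exact Finset.sum_congr rfl fun i _ => (map_mul _ _ _).symm

lemma act_comp {L : Type u} [CommRing L] [Algebra R L] (x : B →ₐ[R] L) (χ : Multiplicative N →* Lˣ) :
    (Coact.act (C := quot C π hπ hk) x χ).comp π = Coact.act (C := C) (x.comp π) χ := by
  apply Coact.algHom_ext_isHom (C := C)
  intro n a ha
  rw [AlgHom.comp_apply, Coact.act_of_isHom _ _ (quot_isHom C π hπ hk ha), Coact.act_of_isHom _ _ ha,
    AlgHom.comp_apply]

end alg

section points

variable {R A B : Type u} [CommRing R] [CommRing A] [CommRing B] [Algebra R A] [Algebra R B]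
  {N : Type} [AddCommGroup N]

lemma fn_ptMap {L : Type u} [CommRing L] [Algebra R L] (x : A →ₐ[R] L) (a : A) :
    fn (ptMap x) a = gPt R L (x a) := gPt_naturality x a

lemma gPt_bijective (L : Type u) [CommRing L] [Algebra R L] : Function.Bijective (gPt R L) :=
  (Scheme.ΓSpecIso (CommRingCat.of L)).symm.commRingCatIsoToRingEquiv.bijective

variable [GrpObj (DE R A)] (z : Red.DS (Spec (CommRingCat.of R)) N ⟶ DE R A) [IsMonHom z]

/-- The action in terms of points. -/
lemma ptMap_act {L : Type u} [CommRing L] [Algebra R L] (x : A →ₐ[R] L) (χ : Multiplicative N →* Lˣ) :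
    (ptMap (Coact.act (C := coact z) x χ) : pt R L ⟶ pt R A) =
      (ptMap x : pt R L ⟶ DE R A) * (charPt ((Units.coeHom L).comp χ) ≫ z) := by
  apply fn_injective
  intro a
  rw [fn_mul]
  refine (fn_ptMap _ a).trans ?_
  change gPt R L (MonoidAlgebra.liftNCAlgHom x ((Units.coeHom L).comp χ) (fun _ _ => Commute.all _ _) (rho z a)) = _
  generalize rho z a = f
  induction f using MonoidAlgebra.induction_linear with
  | zero => rw [map_zero, map_zero, map_zero]
  | add x y hx hy => rw [map_add, map_add, map_add, hx, hy]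
  | single m b =>
    rw [lft_single, fn_ptMap, charPt, dsChar_dsEquiv]
    simp

omit [AddCommGroup N] [GrpObj (DE R A)] in
/-- Points of `D(N)` with values in rings. -/
lemma exists_charPt [AddCommGroup N] {L : Type u} [CommRing L] [Algebra R L]
    (t : pt R L ⟶ Red.DS (Spec (CommRingCat.of R)) N) :
    ∃ χ : Multiplicative N →* Lˣ, t = charPt ((Units.coeHom L).comp χ) := by
  let e : L ≃+* Γ((pt R L).left, ⊤) := RingEquiv.ofBijective _ (gPt_bijective (R := R) L)
  let ψ : Multiplicative N →* L := (e.symm : _ →* L).comp (dsChar t)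
  refine ⟨ψ.toHomUnits, ?_⟩
  apply (dsEquiv (pt R L) N).symm.injective
  change dsChar t = dsChar (charPt _)
  rw [charPt, dsChar_dsEquiv]
  ext n
  change dsChar t n = gPt R L (e.symm (dsChar t n))
  exact (e.apply_symm_apply _).symm

end points

section main

variable {R A B : Type u} [CommRing R] [CommRing A] [CommRing B] [Algebra R A] [Algebra R B]
  {N : Type} [AddCommGroup N]
variable [GrpObj (DE R A)] (z : Red.DS (Spec (CommRingCat.of R)) N ⟶ DE R A) [IsMonHom z]
  [IsClosedImmersion z.left] (π : A →ₐ[R] B)

include z in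
/-- **The coaction on a closed subscheme stable under translations.** -/
theorem exists_coact (hπ : Function.Surjective π)
    (hst : ∀ (X : Over (Spec (CommRingCat.of R))) (x : X ⟶ DE R B) (t : X ⟶ Red.DS (Spec (CommRingCat.of R)) N),
      ∃ y : X ⟶ DE R B, y ≫ ptMap π = (x ≫ (ptMap π : _ ⟶ DE R A)) * (t ≫ z)) :
    ∃ C : Coact R B N, C.Free ∧
      ∀ (L : Type u) [CommRing L] [Algebra R L] (x : B →ₐ[R] L) (χ : Multiplicative N →* Lˣ),
        (ptMap (Coact.act (C := C) x χ) ≫ ptMap π : pt R L ⟶ DE R A) =
          (ptMap x ≫ ptMap π : pt R L ⟶ DE R A) * (charPt ((Units.coeHom L).comp χ) ≫ z) := by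
  have hk : ∀ a, π a = 0 → MonoidAlgebra.mapAlgHom (Multiplicative N) π ((coact z).ρ a) = 0 := by
    intro a ha
    -- the universal translate
    let L := MonoidAlgebra B (Multiplicative N)
    let i : B →ₐ[R] L := IsScalarTower.toAlgHom R B L
    let t : pt R L ⟶ Red.DS (Spec (CommRingCat.of R)) N := charPt (MonoidAlgebra.of B (Multiplicative N))
    obtain ⟨y, hy⟩ := hst (pt R L) (ptMap i) t
    obtain ⟨y, rfl⟩ := TorTransp.exists_eq_ptMap y
    have h1 := congrArg (fun u => fn u a) hy
    simp only [fn_mul] at h1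
    rw [ptMap_comp, fn_ptMap, AlgHom.comp_apply, ha, map_zero, map_zero, ptMap_comp] at h1
    apply (gPt_bijective (R := R) L).1
    rw [map_zero, h1]
    change gPt R L (MonoidAlgebra.mapAlgHom (Multiplicative N) π (rho z a)) = _
    generalize rho z a = f
    induction f using MonoidAlgebra.induction_linear with
    | zero => rw [map_zero, map_zero, map_zero]
    | add x y hx hy => rw [map_add, map_add, map_add, hx, hy]
    | single m b =>
      have h2 : dsChar t m = gPt R L (MonoidAlgebra.single m 1) := by
        simp only [t]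
        rw [charPt, dsChar_dsEquiv]
        rfl
      rw [lft_single, fn_ptMap, MonoidAlgebra.mapAlgHom_single, h2]
      change _ = gPt R L (MonoidAlgebra.single 1 (π b)) * gPt R L (MonoidAlgebra.single m 1)
      rw [← _root_.map_mul, MonoidAlgebra.single_mul_single, _root_.one_mul, _root_.mul_one]
  refine ⟨quot (coact z) π hπ hk, quot_free _ _ _ _ (coact_free z), ?_⟩
  intro L _ _ x χ
  rw [ptMap_comp, act_comp, ptMap_act, ptMap_comp]

end main

end Groth.Agent.RedSub.H669.QuotCoact
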