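import Groth.Agent.RedSub.H669.NormPts
import Groth.Agent.RedSub.H669.QuotCoact
import Groth.Agent.RedSub.H669.GradedCover
import Groth.Agent.RedSub.H645.ConjEqIff

/-!
# The strict transporter of a split maximal torus, locally

Over a base over which the torus is the torus of a splitting and over which the transporter has a point, the
transporter is a finite disjoint union of translates of the torus.
-/

set_option autoImplicit false
universe u
open CategoryTheory MonoidalCategory CartesianMonoidalCategory MonObj GrpObj AlgebraicGeometry Limits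

namespace Groth.Agent.RedSub.H669.LocTorus

open Groth.Agent.Sga3B Groth.Agent.Sga3B.DSPts Groth.Agent.Sga3B.IsomCore Groth.Agent.Sga3B.IsomDefs
  Groth.Agent.Sga3B.InfConj Groth.Agent.Sga3B.Parab Groth.Agent.Sga3B.Parab.ConjPt Groth.Agent.Sga3B.AdGrad
open NormPts QuotCoact GradedCover

section points

variable (R A' : Type u) [CommRing R] [CommRing A'] [Algebra R A']

/-- the structure morphism -/
noncomputable abbrev v : Spec (CommRingCat.of A') ⟶ Spec (CommRingCat.of R) :=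
  Spec.map (CommRingCat.ofHom (algebraMap R A'))

variable (L : Type u) [CommRing L] [Algebra R L] [Algebra A' L] [IsScalarTower R A' L]

/-- change of base -/
noncomputable def mapIso : (Over.map (v R A')).obj (pt A' L) ≅ pt R L :=
  Over.isoMk (Iso.refl _) (by
    change 𝟙 _ ≫ Spec.map (CommRingCat.ofHom (algebraMap R L)) = Spec.map (CommRingCat.ofHom (algebraMap A' L)) ≫
      Spec.map (CommRingCat.ofHom (algebraMap R A'))
    rw [Category.id_comp, ← Spec.map_comp, ← CommRingCat.ofHom_comp, ← IsScalarTower.algebraMap_eq])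

/-- `Spec L ⟶ Spec A'` -/
noncomputable def str : pt R L ⟶ pt R A' := ptMap (IsScalarTower.toAlgHom R A' L)

/-- `Spec A'` over `Spec R` -/
noncomputable def unitMap : pt R A' ⟶ (Over.map (v R A')).obj (𝟙_ (Over (Spec (CommRingCat.of A')))) :=
  Over.homMk (𝟙 _) (by
    change 𝟙 _ ≫ 𝟙 _ ≫ v R A' = v R A'
    rw [Category.id_comp, Category.id_comp])

lemma mapIso_str : (mapIso R A' L).hom ≫ str R A' L ≫ unitMap R A' =
    (Over.map (v R A')).map (toUnit (pt A' L)) := by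
  ext1
  change 𝟙 _ ≫ Spec.map (CommRingCat.ofHom (IsScalarTower.toAlgHom R A' L).toRingHom) ≫ 𝟙 _ =
    (toUnit (pt A' L)).left
  rw [Category.id_comp, Category.comp_id]
  have h1 := Over.w (toUnit (pt A' L))
  change (toUnit (pt A' L)).left ≫ 𝟙 _ = _ at h1
  rw [Category.comp_id] at h1
  rw [h1]
  rfl

variable {R A'}
variable {G T₀ T : Over (Spec (CommRingCat.of R))} [GrpObj G] [GrpObj T₀]

/-- the `Spec A'`-point of `G` attached to a section of the base change -/
noncomputable def nn (n : 𝟙_ (Over (Spec (CommRingCat.of A'))) ⟶ Red.bc (v R A') G) : pt R A' ⟶ G :=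
  unitMap R A' ≫ (bcEquiv (v R A') _ G).symm n

lemma bcEquiv_nn (n : 𝟙_ (Over (Spec (CommRingCat.of A'))) ⟶ Red.bc (v R A') G) :
    bcEquiv (v R A') (pt A' L) G ((mapIso R A' L).hom ≫ str R A' L ≫ nn n) = toUnit (pt A' L) ≫ n := by
  have h1 : (mapIso R A' L).hom ≫ str R A' L ≫ nn n =
      (Over.map (v R A')).map (toUnit (pt A' L)) ≫ (bcEquiv (v R A') _ G).symm n := by
    rw [nn, ← mapIso_str]
    simp only [Category.assoc]
  rw [h1, ← bcEquiv_naturality, MulEquiv.apply_symm_apply]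

end points

section loc

variable {R A' : Type u} [CommRing R] [CommRing A'] [Algebra R A']
variable {G T₀ T : Over (Spec (CommRingCat.of R))} [GrpObj G] [GrpObj T₀] (i₀ : T₀ ⟶ G) [IsMonHom i₀]
  (D : Red.SplitRed (Red.bc (v R A') G)) (τ : Grp.mk (Red.bc (v R A') T₀) ≅ Grp.mk D.T)
  (hτ : (Over.pullback (v R A')).map i₀ = τ.hom.hom.hom ≫ D.i)

include hτ in
omit [IsMonHom i₀] in
lemma i_eq : D.i = τ.inv.hom.hom ≫ (Over.pullback (v R A')).map i₀ := by
  have h1 : τ.inv.hom.hom ≫ τ.hom.hom.hom = 𝟙 _ := congrArg (fun k => k.hom.hom) τ.inv_hom_id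
  rw [hτ, ← Category.assoc, h1, Category.id_comp]

include hτ in
lemma mem_iff_dT {X : Over (Spec (CommRingCat.of A'))} (y : X ⟶ Red.bc (v R A') G) :
    Mem ((Over.pullback (v R A')).map i₀) y ↔ ∃ t : X ⟶ Red.DS (Spec (CommRingCat.of A')) D.M, y = dT D t := by
  constructor
  · rintro ⟨x, rfl⟩
    refine ⟨x ≫ τ.hom.hom.hom ≫ D.split.hom.hom.hom, ?_⟩
    rw [← Category.assoc, dT_hom, hτ, Category.assoc]
  · rintro ⟨t, rfl⟩
    refine ⟨t ≫ D.split.inv.hom.hom ≫ τ.inv.hom.hom, ?_⟩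
    rw [dT, i_eq i₀ D τ hτ]
    simp only [Category.assoc]

variable (n : D.P.weylGroup → (𝟙_ (Over (Spec (CommRingCat.of A'))) ⟶ Red.bc (v R A') G))
  (hn : ∀ w, Acts D (n w) w.1.weightMap.toAddMonoidHom)

include hn hτ in
/-- the Weyl group representatives normalise the torus -/
lemma conj_nn (w : D.P.weylGroup) : Conj i₀ i₀ (nn (n w)) := by
  apply Conj.comp
  rw [← LC.conj_bc_iff]
  intro X x y
  rw [toUnit_unique x (toUnit X), mem_iff_dT i₀ D τ hτ, mem_iff_dT i₀ D τ hτ]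
  constructor
  · rintro ⟨t, rfl⟩
    exact ⟨_, hn w X t⟩
  · rintro ⟨t, ht⟩
    refine ⟨t ≫ Red.DSmap _ ((w⁻¹).1.weightMap.toAddMonoidHom), ?_⟩
    have h1 := hn w X (t ≫ Red.DSmap _ ((w⁻¹).1.weightMap.toAddMonoidHom))
    rw [DSmap_comp] at h1
    have h2 : ((w⁻¹).1.weightMap.toAddMonoidHom).comp (w.1.weightMap.toAddMonoidHom) = AddMonoidHom.id _ := by
      ext m
      have h5 : ((w⁻¹).1 * w.1) = 1 := inv_mul_cancel w.1
      exact congrArg (fun k : D.P.Aut => k.weightMap m) h5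
    rw [h2, DSmap_id, ← ht] at h1
    exact (mul_left_cancel (mul_right_cancel h1)).symm

variable {L : Type u} [CommRing L] [Algebra R L] [Algebra A' L] [IsScalarTower R A' L]

include hn hτ in
/-- Points over local rings normalising the torus. -/
lemma exists_normal [IsLocalRing L] (h : pt R L ⟶ G) (hh : Conj i₀ i₀ h) :
    ∃ (w : D.P.weylGroup) (t : pt R L ⟶ T₀), h = (str R A' L ≫ nn (n w)) * (t ≫ i₀) := by
  let H : pt A' L ⟶ Red.bc (v R A') G := bcEquiv (v R A') (pt A' L) G ((mapIso R A' L).hom ≫ h)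
  have hH : Conj ((Over.pullback (v R A')).map i₀) ((Over.pullback (v R A')).map i₀) H := by
    rw [LC.conj_bc_iff, MulEquiv.symm_apply_apply]
    exact hh.comp _
  obtain ⟨w, t, ht⟩ := exists_eq_mul (D := D) (Spec.map (CommRingCat.ofHom (algebraMap A' L))) H (by
    intro X x t
    exact (mem_iff_dT i₀ D τ hτ _).1 ((hH X x (dT D t)).1 ((mem_iff_dT i₀ D τ hτ _).2 ⟨t, rfl⟩))) n hn
  obtain ⟨y, hy⟩ := (mem_iff_dT i₀ D τ hτ (dT D t)).2 ⟨t, rfl⟩
  refine ⟨w, (mapIso R A' L).inv ≫ (bcEquiv (v R A') (pt A' L) T₀).symm y, ?_⟩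
  have h1 : (mapIso R A' L).hom ≫ h = (mapIso R A' L).hom ≫ str R A' L ≫ nn (n w) *
      ((bcEquiv (v R A') (pt A' L) T₀).symm y ≫ i₀) := by
    apply (bcEquiv (v R A') (pt A' L) G).injective
    refine ht.trans ?_
    rw [map_mul, bcEquiv_nn, ← bcEquiv_comp, MulEquiv.apply_symm_apply, hy]
  rw [← cancel_epi (mapIso R A' L).hom, h1, comp_mul]
  simp only [Category.assoc, Iso.hom_inv_id_assoc]

include hn hτ in
/-- Uniqueness of the element of the Weyl group. -/
lemma unique_normal [Nontrivial L] {w w' : D.P.weylGroup} {t t' : pt R L ⟶ T₀}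
    (h : (str R A' L ≫ nn (n w)) * (t ≫ i₀) = (str R A' L ≫ nn (n w')) * (t' ≫ i₀)) : w = w' := by
  have key : ∀ (w : D.P.weylGroup) (t : pt R L ⟶ T₀), ∃ r : pt A' L ⟶ Red.DS (Spec (CommRingCat.of A')) D.M,
      bcEquiv (v R A') (pt A' L) G ((mapIso R A' L).hom ≫ ((str R A' L ≫ nn (n w)) * (t ≫ i₀))) =
        (toUnit _ ≫ n w) * dT D r := by
    intro w t
    obtain ⟨r, hr⟩ := (mem_iff_dT i₀ D τ hτ
      (bcEquiv (v R A') (pt A' L) T₀ ((mapIso R A' L).hom ≫ t) ≫ (Over.pullback (v R A')).map i₀)).1 ⟨_, rfl⟩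
    refine ⟨r, ?_⟩
    rw [comp_mul, map_mul, bcEquiv_nn, ← hr, bcEquiv_comp, Category.assoc]
  obtain ⟨r, hr⟩ := key w t
  obtain ⟨r', hr'⟩ := key w' t'
  rw [h] at hr
  exact eq_of_mul_eq (D := D) (Spec.map (CommRingCat.ofHom (algebraMap A' L))) n hn (hr.symm.trans hr')

end loc

section triv

variable {R A' : Type u} [CommRing R] [CommRing A'] [Algebra R A'] [Nontrivial A']
variable {G T₀ T : Over (Spec (CommRingCat.of R))} [GrpObj G] [GrpObj T₀] (i₀ : T₀ ⟶ G) [IsMonHom i₀] (i : T ⟶ G)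
  (D : Red.SplitRed (Red.bc (v R A') G)) (τ : Grp.mk (Red.bc (v R A') T₀) ≅ Grp.mk D.T)
  (hτ : (Over.pullback (v R A')).map i₀ = τ.hom.hom.hom ≫ D.i)
  (g : pt R A' ⟶ G) (hg : Conj i₀ i g)
  {B : Type u} [CommRing B] [Algebra R B] {c : pt R B ⟶ G} [Mono c]
  (hc : ∀ (X : Over (Spec (CommRingCat.of R))) (x : X ⟶ G), (∃ y : X ⟶ pt R B, y ≫ c = x) ↔ Conj i₀ i x)
  {M : Type} [AddCommGroup M] (e : Grp.mk T₀ ≅ Grp.mk (Red.DS (Spec (CommRingCat.of R)) M)) (C : Coact R B M)
  (hC : ∀ (L : Type u) [CommRing L] [Algebra R L] (x : B →ₐ[R] L) (χ : Multiplicative M →* Lˣ),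
        (ptMap (Coact.act (C := C) x χ) ≫ c : pt R L ⟶ G) =
          (ptMap x ≫ c) * (charPt ((Units.coeHom L).comp χ) ≫ e.inv.hom.hom ≫ i₀))

include hτ hg hc hC in
/-- **Local triviality of the strict transporter.** -/
theorem nonempty_locTriv : Nonempty (LocTriv C A') := by
  choose n hn using fun w : D.P.weylGroup => exists_acts D w.1 w.2
  have hfin : Finite D.P.weylGroup := by
    have : Nonempty (Spec (CommRingCat.of A')) := inferInstance
    exact finite_weyl D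
  have h1 : ∀ w : D.P.weylGroup, ∃ p : B →ₐ[R] A', ptMap p ≫ c = g * nn (n w) := by
    intro w
    obtain ⟨y, hy⟩ := (hc _ (g * nn (n w))).2 (hg.mul (conj_nn i₀ D τ hτ n hn w))
    obtain ⟨p, rfl⟩ := TorTransp.exists_eq_ptMap y
    exact ⟨p, hy⟩
  choose p hp using h1
  have hp' : ∀ (w : D.P.weylGroup) (L : Type u) [CommRing L] [Algebra R L] [Algebra A' L] [IsScalarTower R A' L],
      (ptMap ((IsScalarTower.toAlgHom R A' L).comp (p w)) ≫ c : pt R L ⟶ G) =
        (str R A' L ≫ g) * (str R A' L ≫ nn (n w)) := by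
    intro w L _ _ _ _
    rw [← ptMap_comp, Category.assoc, hp, comp_mul]
    rfl
  have hz : ∀ (L : Type u) [CommRing L] [Algebra R L] (t : pt R L ⟶ T₀), ∃ χ : Multiplicative M →* Lˣ,
      t ≫ i₀ = charPt ((Units.coeHom L).comp χ) ≫ e.inv.hom.hom ≫ i₀ := by
    intro L _ _ t
    obtain ⟨χ, hχ⟩ := exists_charPt (t ≫ e.hom.hom.hom)
    refine ⟨χ, ?_⟩
    have h2 : e.hom.hom.hom ≫ e.inv.hom.hom = 𝟙 _ := congrArg (fun k => k.hom.hom) e.hom_inv_id
    rw [← hχ, Category.assoc, ← Category.assoc e.hom.hom.hom, h2, Category.id_comp]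
  refine ⟨{ W := D.P.weylGroup, p := p, exists_eq := ?_, unique := ?_ }⟩
  · intro L _ _ _ _ _ x
    have h2 : Conj i₀ i (ptMap x ≫ c) := (hc _ _).1 ⟨_, rfl⟩
    have h3 : Conj i₀ i₀ ((str R A' L ≫ g)⁻¹ * (ptMap x ≫ c)) := (hg.comp (str R A' L)).inv.mul h2
    obtain ⟨w, t, ht⟩ := exists_normal i₀ D τ hτ n hn _ h3
    obtain ⟨χ, hχ⟩ := hz L t
    refine ⟨w, χ, ?_⟩
    apply TorTransp.ptMap_injective
    rw [← cancel_mono c, hC, hp', ← hχ, _root_.mul_assoc, ← ht]
    group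
  · intro L _ _ _ _ w w' χ χ' h
    have h2 := congrArg (fun a => ptMap a ≫ c) h
    simp only [hC, hp'] at h2
    rw [_root_.mul_assoc, _root_.mul_assoc] at h2
    have h3 := mul_left_cancel h2
    simp only [← Category.assoc] at h3
    exact unique_normal i₀ D τ hτ n hn h3

end triv

end Groth.Agent.RedSub.H669.LocTorus
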