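import Groth.Agent.RedSub.H669.LocExist
import Groth.Agent.RedSub.H641.StrictTr
import Groth.Agent.Sga3B.TorusIrr
import Groth.Agent.Sga3B.TorClosed636
import Groth.Agent.Sga3B.Parab.TorRank156

/-!
# A split maximal torus over a semilocal ring is conjugate to any other after a finite étale covering
-/

set_option autoImplicit false
universe u
open CategoryTheory MonoidalCategory CartesianMonoidalCategory MonObj GrpObj AlgebraicGeometry Limits

namespace Groth.Agent.RedSub.H669.Main

open Groth.Agent.Sga3B Groth.Agent.Sga3B.DSPts Groth.Agent.Sga3B.IsomCore Groth.Agent.Sga3B.RedIso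
  Groth.Agent.Sga3B.InfConj Groth.Agent.Sga3B.Parab Groth.Agent.Sga3B.Parab.ConjPt Groth.Agent.Sga3B.AdGrad
  Groth.Agent.Sga3B.AdPts Groth.Agent.Sga3B.FreeBC
open NormPts QuotCoact GradedCover LocTorus LocExist

section model

variable {R : Type u} [CommRing R]

/-- An affine scheme over `Spec R` is the spectrum of an `R`-algebra. -/
lemma exists_pt_iso (X : Over (Spec (CommRingCat.of R))) [IsAffine X.left] :
    ∃ (A : Type u) (_ : CommRing A) (_ : Algebra R A), Nonempty (X ≅ pt R A) := by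
  obtain ⟨φ, hφ⟩ := Spec.map_surjective (X.left.isoSpec.inv ≫ X.hom)
  let _ : Algebra R Γ(X.left, ⊤) := φ.hom.toAlgebra
  refine ⟨Γ(X.left, ⊤), inferInstance, inferInstance, ⟨Over.isoMk X.left.isoSpec ?_⟩⟩
  change X.left.isoSpec.hom ≫ Spec.map φ = X.hom
  rw [hφ, Iso.hom_inv_id_assoc]

/-- **The coaction on a closed subscheme stable under right translations by a diagonalisable subgroup.** -/
theorem exists_coact' {G C : Over (Spec (CommRingCat.of R))} [GrpObj G] [IsAffine G.left] {N : Type}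
    [AddCommGroup N] (z : Red.DS (Spec (CommRingCat.of R)) N ⟶ G) [IsMonHom z] [IsClosedImmersion z.left]
    (c : C ⟶ G) [IsClosedImmersion c.left]
    (hst : ∀ (X : Over (Spec (CommRingCat.of R))) (x : X ⟶ C) (t : X ⟶ Red.DS (Spec (CommRingCat.of R)) N),
      ∃ y : X ⟶ C, y ≫ c = (x ≫ c) * (t ≫ z)) :
    ∃ (B : Type u) (_ : CommRing B) (_ : Algebra R B) (e : C ≅ pt R B) (Co : Coact R B N), Co.Free ∧
      ∀ (L : Type u) [CommRing L] [Algebra R L] (x : B →ₐ[R] L) (χ : Multiplicative N →* Lˣ),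
        (ptMap (Coact.act (C := Co) x χ) ≫ e.inv ≫ c : pt R L ⟶ G) =
          (ptMap x ≫ e.inv ≫ c) * (charPt ((Units.coeHom L).comp χ) ≫ z) := by
  have hCaff : IsAffine C.left := isAffine_of_isAffineHom c.left
  obtain ⟨A, _, _, ⟨eG⟩⟩ := exists_pt_iso G
  obtain ⟨B, _, _, ⟨eC⟩⟩ := exists_pt_iso C
  let _ : GrpObj (DE R A) := GrpObj.ofIso eG
  let E : G ⟶ DE R A := eG.hom
  have hmon : IsMonHom E := isMonHom_ofIso eG
  have hE : IsIso E := inferInstanceAs (IsIso eG.hom)
  have hEl : IsIso E.left := inferInstanceAs (IsIso ((Over.forget _).map E))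
  let c' : pt R B ⟶ DE R A := eC.inv ≫ c ≫ E
  have hil : IsIso eC.inv.left := inferInstanceAs (IsIso ((Over.forget _).map eC.inv))
  have hc' : IsClosedImmersion c'.left := inferInstanceAs (IsClosedImmersion (eC.inv.left ≫ c.left ≫ E.left))
  obtain ⟨π, hπ⟩ := TorTransp.exists_eq_ptMap (R := R) (E := A) (E' := B) c'
  have hsurj : Function.Surjective π := by
    intro b
    obtain ⟨a, ha⟩ := fn_surjective c' (gPt R B b)
    refine ⟨a, (gPt_bijective (R := R) B).1 ?_⟩
    rw [← ha, hπ]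
    exact (fn_ptMap π a).symm
  let z' : Red.DS (Spec (CommRingCat.of R)) N ⟶ DE R A := z ≫ E
  have hz' : IsClosedImmersion z'.left := inferInstanceAs (IsClosedImmersion (z.left ≫ E.left))
  have hzm : IsMonHom z' := inferInstance
  obtain ⟨Co, hfree, hact⟩ := exists_coact z' π hsurj (by
    intro X x t
    obtain ⟨y, hy⟩ := hst X (x ≫ eC.inv) t
    refine ⟨y ≫ eC.hom, ?_⟩
    have h1 : (y ≫ eC.hom) ≫ c' = (y ≫ c) ≫ E := by simp [c']
    have h2 : x ≫ c' = (x ≫ eC.inv ≫ c) ≫ E := by simp [c']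
    rw [← hπ, h1, h2, hy, mul_comp, Category.assoc, Category.assoc]
    rfl)
  refine ⟨B, inferInstance, inferInstance, eC, Co, hfree, ?_⟩
  intro L _ _ x χ
  have h1 := hact L x χ
  rw [← hπ] at h1
  rw [← cancel_mono E, mul_comp, Category.assoc, Category.assoc, Category.assoc, Category.assoc, Category.assoc]
  exact h1

end model

section main

variable {R : Type u} [CommRing R]
  {G T₀ T : Over (Spec (CommRingCat.of R))} [GrpObj G] [GrpObj T₀] [GrpObj T]

/-- **A split maximal torus over a semilocal ring is conjugate to any other after a finite étale covering.** -/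
theorem main [Nontrivial R] (hA : {m : Ideal R | m.IsMaximal}.Finite) (hG : Red.IsReductive G) (i₀ : T₀ ⟶ G)
    (i : T ⟶ G) (h₀ : Red.IsMaximalTorus i₀) (hT : Red.IsMaximalTorus i)
    {M : Type} [AddCommGroup M] (hs : Red.IsSplitTorusWith M T₀) :
    ∃ (E : Type u) (_ : CommRing E) (_ : Algebra R E), Module.Finite R E ∧ Algebra.Etale R E ∧
      Module.FaithfullyFlat R E ∧ ∃ g : pt R E ⟶ G, Conj i₀ i g := by
  -- the character group
  have hne : Nonempty (Spec (CommRingCat.of R)) := inferInstance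
  obtain ⟨r, ⟨eM⟩⟩ := TorRank156.finite_free h₀.2.2.1 hs
  have hM1 : Module.Free ℤ M := Module.Free.of_equiv eM.toIntLinearEquiv.symm
  have hM2 : Module.Finite ℤ M := Module.Finite.equiv eM.toIntLinearEquiv.symm
  -- properties of the groups
  have a1 : IsAffineHom G.hom := hG.1
  have a2 : Smooth G.hom := hG.2.1
  have a3 : IsMonHom i₀ := h₀.1
  have a4 : Mono i₀ := h₀.2.1
  have a5 : IsMonHom i := hT.1
  have a6 : Mono i := hT.2.1
  have a7 : Smooth T₀.hom := TorusAlgClosed.smooth_of_isTorus h₀.2.2.1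
  have a8 : Smooth T.hom := TorusAlgClosed.smooth_of_isTorus hT.2.2.1
  have a9 : GeometricallyIrreducible T₀.hom := TorusIrr.geometricallyIrreducible_of_isTorus h₀.2.2.1
  have a10 : GeometricallyIrreducible T.hom := TorusIrr.geometricallyIrreducible_of_isTorus hT.2.2.1
  have a11 : IsAffine G.left := isAffine_of_isAffineHom G.hom
  have a12 : IsClosedImmersion i₀.left := TorClosed636.isClosedImmersion_of_isMaximalTorus hG h₀
  -- the strict transporter
  obtain ⟨C, c, ⟨hcm, hc⟩, hcc, -⟩ := Groth.Agent.RedSub.H641.StrictTr.exists_strictTransporter i₀ i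
  have hc' : ∀ (X : Over (Spec (CommRingCat.of R))) (x : X ⟶ G), (∃ y : X ⟶ C, y ≫ c = x) ↔ Conj i₀ i x :=
    fun X x => (hc X x).trans (Groth.Agent.RedSub.H645.ConjEqIff.conjEq_iff x)
  obtain ⟨e⟩ := id hs
  let z : Red.DS (Spec (CommRingCat.of R)) M ⟶ G := (und e).inv ≫ i₀
  have hzm : IsMonHom z := inferInstance
  have hil : IsIso (und e).inv.left := inferInstanceAs (IsIso ((Over.forget _).map (und e).inv))
  have hz : IsClosedImmersion z.left := inferInstanceAs (IsClosedImmersion ((und e).inv.left ≫ i₀.left))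
  obtain ⟨B, _, _, eC, Co, hfree, hact⟩ := exists_coact' z c (by
    intro X x t
    rw [hc']
    exact ((hc' X _).1 ⟨x, rfl⟩).mul (conj_of_mem i₀ ⟨t ≫ (und e).inv, Category.assoc _ _ _⟩))
  have hmono : Mono (eC.inv ≫ c) := inferInstance
  have hc'' : ∀ (X : Over (Spec (CommRingCat.of R))) (x : X ⟶ G),
      (∃ y : X ⟶ pt R B, y ≫ eC.inv ≫ c = x) ↔ Conj i₀ i x := by
    intro X x
    rw [← hc']
    constructor
    · rintro ⟨y, rfl⟩
      exact ⟨y ≫ eC.inv, Category.assoc _ _ _⟩
    · rintro ⟨y, rfl⟩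
      exact ⟨y ≫ eC.hom, by simp⟩
  obtain ⟨h1, h2, h3, ⟨σ⟩⟩ := exists_cover hA hfree (by
    intro m hm
    obtain ⟨A', v, hv, ⟨y, hy⟩, D, τ, g, hτ, hg⟩ := exists_loc hG i₀ i h₀ hT hs ⟨m, hm.isPrime⟩
    obtain ⟨φ, rfl⟩ := Spec.map_surjective v
    let _ : Algebra R A' := φ.hom.toAlgebra
    have hfl : Module.Flat R A' := by
      have h4 : Flat (Spec.map φ) := inferInstance
      rw [Flat.SpecMap_iff] at h4
      exact h4
    have hnt : Nontrivial A' := PrimeSpectrum.nonempty_iff_nontrivial.1 ⟨y⟩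
    refine ⟨A', inferInstance, inferInstance, hfl, ?_, ?_⟩
    · intro htop
      have h5 : m.map (algebraMap R A') ≤ y.asIdeal := by
        rw [Ideal.map_le_iff_le_comap]
        have h6 := congrArg PrimeSpectrum.asIdeal hy
        exact h6.ge
      rw [htop] at h5
      exact y.isPrime.ne_top (top_le_iff.1 h5)
    · exact nonempty_locTriv i₀ i D τ hτ g hg hc'' e Co hact)
  exact ⟨Co.A0, inferInstance, inferInstance, h1, h2, h3, ptMap σ ≫ eC.inv ≫ c, (hc'' _ _).1 ⟨_, rfl⟩⟩

end main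

end Groth.Agent.RedSub.H669.Main
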