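import Groth.Agent.Sga3B.IsomHb885
import Groth.Agent.Sga3B.IsomLocal
import Groth.Agent.Sga3B.ChartGood
import Groth.Agent.Sga3B.SplitModel889
import Groth.Agent.Sga3B.SplitRedField415
import Groth.Agent.Sga3B.BaseZ
import Groth.Agent.Sga3B.DSRigid
import Groth.Agent.Sga3A.Weyl

/-!
# Points of the normaliser of a split maximal torus

`D` a splitting of `G` over `S`.

* `finite_weylGroup`: the Weyl group of a reduced root datum is finite.
* `exists_weyl`: if a point `g` of `G` over a nonempty base acts on the torus through an endomorphism `θ` of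
  the character group, then `θ` belongs to the Weyl group.
* `exists_eq_mul`: every point over a local base of the normaliser of the torus is `n_w · t` with `w` in the
  Weyl group and `t` in the torus.
* `eq_of_mul_eq`: `w` is unique.
-/

set_option autoImplicit false
universe u
open CategoryTheory MonoidalCategory CartesianMonoidalCategory MonObj GrpObj AlgebraicGeometry Limits

namespace Groth.Agent.RedSub.H669.NormPts

open Groth.Agent.Sga3B Groth.Agent.Sga3B.DSPts Groth.Agent.Sga3B.IsomCore Groth.Agent.Sga3B.IsomDefs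
  Groth.Agent.Sga3B.IsomLocal

/-- The Weyl group of a root datum with a base is finite. -/
theorem finite_weylGroup {J M N : Type*} [Finite J] [AddCommGroup M] [AddCommGroup N]
    (P : RootPairing J ℤ M N) [P.IsReduced] (b : P.Base) : Finite P.weylGroup := by
  refine Finite.of_injective (β := J → J) (fun w i => w • i) ?_
  intro w w' h
  have h1 : w'⁻¹ * w = 1 := by
    apply Sga3A.Weyl.eq_one_of_preserves b
    intro j hj
    have h2 : w • j = w' • j := congrFun h j
    rw [mul_smul, h2, inv_smul_smul]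
    exact b.isPos_of_mem_support hj
  exact (inv_mul_eq_one.1 h1).symm

variable {S : Scheme.{u}} {G : Over S} [GrpObj G] (D : Red.SplitRed G)

theorem finite_weyl [Nonempty S] : Finite D.P.weylGroup := by
  have h1 : D.P.IsReduced := SplitReduced415.isReduced D
  obtain ⟨b⟩ := BaseZ.nonempty_base (P := D.P)
  exact finite_weylGroup D.P b

/-- `g` acts on the torus through the endomorphism `θ` of the character group -/
def ActsFam {X : Over S} (g : X ⟶ G) (θ : D.M →+ D.M) : Prop :=
  ∀ (X' : Over S) (x : X' ⟶ X) (t : X' ⟶ Red.DS S D.M),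
    (x ≫ g) * dT D t * (x ≫ g)⁻¹ = dT D (t ≫ Red.DSmap S θ)

variable {D}

/-- A point over a nonempty base acts on the torus through an element of the Weyl group. -/
theorem exists_weyl {X : Over S} (hX : Nonempty X.left) {g : X ⟶ G} {θ : D.M →+ D.M} (h : ActsFam D g θ) :
    ∃ w ∈ D.P.weylGroup, θ = w.weightMap.toAddMonoidHom := by
  have hS : Nonempty S := hX.map X.hom
  have hred : D.P.IsReduced := SplitReduced415.isReduced D
  obtain ⟨b⟩ := BaseZ.nonempty_base (P := D.P)
  have hid : AutFam.IsIsoFamily G G (fst G X) := by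
    have := isIsoFamily_const (V := X) (Iso.refl (Grp.mk G))
    change AutFam.IsIsoFamily G G (fst G X ≫ 𝟙 _) at this
    rwa [Category.comp_id] at this
  have hψ := isIsoFamily_conjFam g hid
  have hT : TorPart D D θ (conjFam g (fst G X)) := by
    intro X' x t
    rw [lift_conjFam, lift_fst]
    exact h X' x t
  obtain ⟨e, he⟩ := ChartFam.hbStmt D D X hX _ hψ θ hT
  obtain ⟨w, hw, hm⟩ := IsomComb.exists_match e b b
  obtain ⟨n, hn⟩ := exists_acts D w hw
  have h1 := TorPart.conj_acts hT hn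
  rw [conjFam_conjFam] at h1
  -- a geometric point
  obtain ⟨p⟩ := hX
  let K : Type u := AlgebraicClosure (X.left.residueField p)
  let s : Spec (CommRingCat.of K) ⟶ X.left := Red.geomPt p
  let x : Over.mk (s ≫ X.hom) ⟶ X := Over.homMk s
  obtain ⟨lam, hlam, hlam'⟩ := IsomU.exists_height b
  have hroot : ∀ a, (θ.comp w.weightMap.toAddMonoidHom) (D.P.root a) =
      D.P.root (e.indexEquiv (w • a)) := by
    intro a
    change θ (w.weightMap (D.P.root a)) = _
    rw [← he, RootPairing.Hom.root_weightMap_apply, RootPairing.Hom.root_weightMap_apply]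
    rfl
  have h2 : ∀ m, (θ.comp w.weightMap.toAddMonoidHom) m = m := by
    refine SplitCmp588.h0Stmt D K (s ≫ X.hom) (x ≫ ((toUnit X ≫ n) * g)) _ lam hlam
      (hlam' _ (fun a ha => ⟨_, (hm a).1 ha, hroot a⟩)) ?_
    intro X' x' t
    have h3 := h1 X' (x' ≫ x) t
    rw [lift_conjFam, lift_fst] at h3
    rw [← Category.assoc]
    exact h3
  refine ⟨w⁻¹, inv_mem hw, ?_⟩
  ext m
  have h4 : w.weightMap ((w⁻¹).weightMap m) = m := by
    have h5 : (w * w⁻¹) = 1 := mul_inv_cancel w
    have h6 := congrArg (fun k : D.P.Aut => k.weightMap m) h5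
    exact h6
  have h7 := h2 ((w⁻¹).weightMap m)
  change θ (w.weightMap ((w⁻¹).weightMap m)) = _ at h7
  rw [h4] at h7
  exact h7

/-- A point acting trivially on the torus is a point of the torus. -/
theorem exists_torus {X : Over S} {g : X ⟶ G} (h : ActsFam D g (AddMonoidHom.id _)) :
    ∃ t : X ⟶ Red.DS S D.M, g = dT D t := by
  obtain ⟨-, -, h1⟩ := isCentralizerOf_i D
  obtain ⟨z, hz⟩ := (h1 X g).2 (fun X' x t => by
    have h2 := h X' x (t ≫ D.split.hom.hom.hom)
    rw [DSmap_id, dT_hom, mul_inv_eq_iff_eq_mul] at h2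
    exact h2)
  exact ⟨z ≫ D.split.hom.hom.hom, by rw [dT_hom, hz]⟩

/-- A point over a local base which normalises the torus acts through an endomorphism of the character
group. -/
theorem exists_actsFam {R : Type u} [CommRing R] [IsLocalRing R] (s : Spec (CommRingCat.of R) ⟶ S)
    (g : Over.mk s ⟶ G) (hg : ∀ (X : Over S) (x : X ⟶ Over.mk s) (t : X ⟶ Red.DS S D.M),
      ∃ t' : X ⟶ Red.DS S D.M, (x ≫ g) * dT D t * (x ≫ g)⁻¹ = dT D t') :
    ∃ θ : D.M →+ D.M, ActsFam D g θ := by
  obtain ⟨a, ha⟩ := hg (Red.DS S D.M ⊗ Over.mk s) (snd _ _) (fst _ _)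
  have ha' : ∀ (X : Over S) (t : X ⟶ Red.DS S D.M) (x : X ⟶ Over.mk s),
      (x ≫ g) * dT D t * (x ≫ g)⁻¹ = dT D (lift t x ≫ a) := by
    intro X t x
    rw [← comp_dT, ← ha]
    simp only [comp_mul, comp_inv, comp_dT, ← Category.assoc, lift_fst, lift_snd]
  obtain ⟨φ, hφ⟩ := DSRigid.exists_DSmap_family s a (by
    intro X t t' x
    apply dT_injective D
    rw [← ha', dT_mul, dT_mul, ← ha', ← ha']
    group)
  refine ⟨φ, ?_⟩
  intro X x t
  rw [ha', hφ]

/-- **Points of the normaliser of the torus over a local base.** -/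
theorem exists_eq_mul {R : Type u} [CommRing R] [IsLocalRing R] (s : Spec (CommRingCat.of R) ⟶ S)
    (g : Over.mk s ⟶ G) (hg : ∀ (X : Over S) (x : X ⟶ Over.mk s) (t : X ⟶ Red.DS S D.M),
      ∃ t' : X ⟶ Red.DS S D.M, (x ≫ g) * dT D t * (x ≫ g)⁻¹ = dT D t')
    (n : D.P.weylGroup → (𝟙_ (Over S) ⟶ G)) (hn : ∀ w, Acts D (n w) w.1.weightMap.toAddMonoidHom) :
    ∃ (w : D.P.weylGroup) (t : Over.mk s ⟶ Red.DS S D.M), g = (toUnit _ ≫ n w) * dT D t := by
  obtain ⟨θ, hθ⟩ := exists_actsFam s g hg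
  have hne : Nonempty (Over.mk s).left := inferInstanceAs (Nonempty (Spec (CommRingCat.of R)))
  obtain ⟨w, hw, rfl⟩ := exists_weyl hne hθ
  refine ⟨⟨w, hw⟩, ?_⟩
  obtain ⟨t, ht⟩ := exists_torus (D := D) (g := (toUnit _ ≫ n ⟨w, hw⟩)⁻¹ * g) (by
    intro X x t
    have h1 := hn ⟨w, hw⟩ X t
    have h2 := hθ X x t
    rw [DSmap_id, comp_mul, comp_inv, ← Category.assoc, toUnit_unique (x ≫ toUnit _) (toUnit X)]
    rw [← h1] at h2
    have h3 : (toUnit X ≫ n ⟨w, hw⟩)⁻¹ * ((x ≫ g) * dT D t * (x ≫ g)⁻¹) * (toUnit X ≫ n ⟨w, hw⟩) = dT D t := by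
      rw [h2]; group
    refine Eq.trans ?_ h3
    group)
  exact ⟨t, by rw [← ht]; group⟩

lemma eq_of_DSmap_eq {R : Type u} [CommRing R] [Nontrivial R] (s : Spec (CommRingCat.of R) ⟶ S)
    {M : Type} [AddCommGroup M] {θ θ' : M →+ M}
    (h : ∀ (X : Over S) (_ : X ⟶ Over.mk s) (t : X ⟶ Red.DS S M), t ≫ Red.DSmap S θ = t ≫ Red.DSmap S θ') :
    θ = θ' := by
  let E := MonoidAlgebra R (Multiplicative M)
  let X : Over S := Over.mk (Spec.map (CommRingCat.ofHom (algebraMap R E)) ≫ s)
  let x : X ⟶ Over.mk s := Over.homMk (Spec.map (CommRingCat.ofHom (algebraMap R E))) rfl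
  let ι' : E →+* Γ(Spec (CommRingCat.of E), ⊤) := (Scheme.ΓSpecIso (CommRingCat.of E)).inv.hom
  let χ : Multiplicative M →* Γ(X.left, ⊤) :=
    (ι' : E →* Γ(Spec (CommRingCat.of E), ⊤)).comp (MonoidAlgebra.of R (Multiplicative M))
  have h1 := congrArg dsChar (h X x (dsEquiv X M χ))
  rw [dsChar_DSmap, dsChar_DSmap, dsChar_dsEquiv] at h1
  ext m
  have h2 := DFunLike.congr_fun h1 (Multiplicative.ofAdd m)
  have h3 : Function.Injective ι' := (ConcreteCategory.bijective_of_isIso (Scheme.ΓSpecIso (.of E)).inv).1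
  have h4 : (MonoidAlgebra.of R (Multiplicative M)) (Multiplicative.ofAdd (θ m)) =
      (MonoidAlgebra.of R (Multiplicative M)) (Multiplicative.ofAdd (θ' m)) := h3 h2
  exact Multiplicative.ofAdd.injective (MonoidAlgebra.of_injective h4)

/-- Uniqueness of the Weyl group element. -/
theorem eq_of_mul_eq {R : Type u} [CommRing R] [Nontrivial R] (s : Spec (CommRingCat.of R) ⟶ S)
    (n : D.P.weylGroup → (𝟙_ (Over S) ⟶ G)) (hn : ∀ w, Acts D (n w) w.1.weightMap.toAddMonoidHom)
    {w w' : D.P.weylGroup} {t t' : Over.mk s ⟶ Red.DS S D.M}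
    (h : (toUnit _ ≫ n w) * dT D t = (toUnit _ ≫ n w') * dT D t') : w = w' := by
  have key : ∀ (v : D.P.weylGroup) (t : Over.mk s ⟶ Red.DS S D.M),
      ActsFam D ((toUnit _ ≫ n v) * dT D t) v.1.weightMap.toAddMonoidHom := by
    intro v t X x r
    rw [comp_mul, ← Category.assoc, toUnit_unique (x ≫ toUnit _) (toUnit X), comp_dT, ← hn v X r]
    have h1 : dT D (x ≫ t) * dT D r = dT D r * dT D (x ≫ t) := by
      rw [← dT_mul, ← dT_mul]
      congr 1
      apply (dsEquiv X D.M).symm.injective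
      change dsChar _ = dsChar _
      rw [dsChar_mul, dsChar_mul, mul_comm]
    have h2 : (toUnit X ≫ n v) * dT D (x ≫ t) * dT D r * ((toUnit X ≫ n v) * dT D (x ≫ t))⁻¹ =
        (toUnit X ≫ n v) * (dT D (x ≫ t) * dT D r) * ((toUnit X ≫ n v) * dT D (x ≫ t))⁻¹ := by group
    rw [h2, h1]
    group
  have h1 := key w t
  rw [h] at h1
  have h2 := key w' t'
  have h3 : w.1.weightMap.toAddMonoidHom = w'.1.weightMap.toAddMonoidHom := by
    apply eq_of_DSmap_eq s
    intro X x r
    apply dT_injective D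
    rw [← h1 X x r, ← h2 X x r]
  apply Subtype.ext
  apply IsomComb.equiv_ext
  intro m
  exact DFunLike.congr_fun h3 m

end Groth.Agent.RedSub.H669.NormPts
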